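import Groth.Agent.Lib.Fitting.More
import Groth.Agent.S6895
import Mathlib.Algebra.Category.ModuleCat.ChangeOfRings
import Mathlib.Algebra.CharP.Frobenius
import Mathlib.RingTheory.Nakayama

/-!
# Modules isomorphic to their Frobenius pullback are free
-/

set_option autoImplicit false
universe u

open CategoryTheory IsLocalRing TensorProduct

namespace Groth.Agent.Frob27

theorem ideal_extendScalars {R S : Type u} [CommRing R] [CommRing S] (f : R →+* S) (M : Type u) [AddCommGroup M]
    [Module R M] [Module.Finite R M] (k : ℕ) :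
    Fitt.ideal S ((ModuleCat.extendScalars f).obj (ModuleCat.of R M)) k = (Fitt.ideal R M k).map f := by
  letI := f.toAlgebra
  exact FittingLib.ideal_baseChange (R' := S) k

variable (p : ℕ) [Fact p.Prime] {R : Type u} [CommRing R] [IsLocalRing R] [IsNoetherianRing R] [CharP R p]

theorem free_of_iso (M : Type u) [AddCommGroup M] [Module R M] [Module.Finite R M]
    (h : Nonempty ((ModuleCat.extendScalars (frobenius R p)).obj (ModuleCat.of R M) ≅ ModuleCat.of R M)) :
    Module.Free R M := by
  classical
  obtain ⟨e⟩ := h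
  obtain ⟨n, x, hx⟩ := FittingLib.exists_generators (R := R) (M := M)
  have hex : ∃ k, Fitt.ideal R M k = ⊤ := ⟨n, (FittingLib.ideal_eq_top_iff_generated n).2 ⟨x, hx⟩⟩
  let r := Nat.find hex
  have hlt : ∀ k, k < r → Fitt.ideal R M k = ⊥ := fun k hk => by
    have hm : Fitt.ideal R M k ≤ maximalIdeal R := le_maximalIdeal (Nat.find_min hex hk)
    haveI : Module.Finite R ((ModuleCat.extendScalars (frobenius R p)).obj (ModuleCat.of R M)) :=
      Module.Finite.equiv e.toLinearEquiv.symm
    have heq : Fitt.ideal R M k = (Fitt.ideal R M k).map (frobenius R p) :=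
      (FittingLib.ideal_congr e.toLinearEquiv k).symm.trans (ideal_extendScalars (frobenius R p) M k)
    refine Submodule.eq_bot_of_le_smul_of_le_jacobson_bot (maximalIdeal R) _ (IsNoetherian.noetherian _) ?_
      (jacobson_eq_maximalIdeal ⊥ bot_ne_top).ge
    conv_lhs => rw [heq]
    refine Ideal.map_le_iff_le_comap.2 fun a ha => ?_
    rw [Ideal.mem_comap, frobenius_def, show p = (p - 1) + 1 from (Nat.sub_add_cancel (Fact.out (p := p.Prime)).one_le).symm,
      pow_succ, smul_eq_mul]
    exact Ideal.mul_mem_mul (Ideal.pow_mem_of_mem _ (hm ha) _ (by have := (Fact.out (p := p.Prime)).two_le; omega)) ha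
  obtain ⟨f, hf, hfree, -⟩ := (S6895.result M r).2 ⟨hlt, fun k hk =>
    top_le_iff.1 ((Nat.find_spec hex).ge.trans (FittingLib.ideal_mono hk))⟩ (maximalIdeal R)
  have hu : IsUnit f := IsLocalRing.notMem_maximalIdeal.1 hf
  have hS : Submonoid.powers f ≤ IsUnit.submonoid R := Submonoid.powers_le.2 hu
  let eR := IsLocalization.atUnits R (Submonoid.powers f) hS (S := Localization.Away f)
  haveI : IsLocalizedModule (Submonoid.powers f) (LinearMap.id : M →ₗ[R] M) :=
    ⟨fun s => (Module.End.isUnit_iff _).2 (by
      obtain ⟨v, hv⟩ := hS s.2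
      exact ⟨fun a b hab => (IsUnit.smul_left_cancel (hS s.2)).1 hab,
        fun b => ⟨(↑v⁻¹ : R) • b, by simp [Module.algebraMap_end_apply, smul_smul, ← hv]⟩⟩),
     fun y => ⟨(y, 1), by simp⟩, fun h => ⟨1, by simpa using h⟩⟩
  let eM := IsLocalizedModule.iso (Submonoid.powers f) (LinearMap.id : M →ₗ[R] M)
  haveI := hfree
  haveI : Module.Free R (Localization.Away f) := Module.Free.of_equiv eR.toLinearEquiv
  haveI : Module.Free R (LocalizedModule (Submonoid.powers f) M) := Module.Free.trans (R := R) (S := Localization.Away f)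
  exact Module.Free.of_equiv eM

end Groth.Agent.Frob27
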